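import Mathlib.RingTheory.Flat.FaithfullyFlat.Algebra
import Mathlib.RingTheory.IsTensorProduct
import Mathlib.LinearAlgebra.Dimension.Finrank
import Mathlib.RingTheory.LocalRing.Module
import Mathlib.RingTheory.Flat.Basic
import Mathlib.RingTheory.Finiteness.Descent
import Mathlib.RingTheory.LocalRing.RingHom.Basic

/-!
# Regular pairs along flat extensions
-/

set_option autoImplicit false
set_option linter.style.haveILetI false

universe u v

open TensorProduct Function

namespace Groth.Agent.FlatMor.NormalBase

/-- `a` is regular on `P` and `b` is regular on `P ⧸ a P`. -/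
def IsPair {R : Type*} [CommRing R] (a b : R) (P : Type*) [AddCommGroup P] [Module R P] : Prop :=
  (∀ p : P, a • p = 0 → p = 0) ∧ ∀ p p' : P, b • p = a • p' → ∃ r, p = a • r

theorem IsPair.pow {R : Type*} [CommRing R] {a b : R} {P : Type*} [AddCommGroup P] [Module R P]
    (h : IsPair a b P) : ∀ (n m : ℕ) (p q : P), b ^ m • p = a ^ n • q → ∃ r, p = a ^ n • r := by
  have h1 : ∀ (m : ℕ) (p q : P), b ^ m • p = a • q → ∃ r, p = a • r := by
    intro m
    induction m with
    | zero => intro p q e; exact ⟨q, by simpa using e⟩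
    | succ m ih =>
      intro p q e
      rw [pow_succ', mul_smul] at e
      obtain ⟨r, hr⟩ := h.2 _ _ e
      exact ih p r hr
  intro n
  induction n with
  | zero => intro m p q _; exact ⟨p, by simp⟩
  | succ n ih =>
    intro m p q e
    rw [pow_succ', mul_smul] at e
    obtain ⟨p₁, rfl⟩ := h1 m p _ e
    rw [smul_comm] at e
    obtain ⟨r, rfl⟩ := ih m p₁ q (sub_eq_zero.1 (h.1 _ (by rw [smul_sub, e, sub_self])))
    exact ⟨r, by rw [pow_succ', mul_smul]⟩

/-- A map out of a module with a regular pair, bijective up to powers of both, is bijective. -/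
theorem bijective_of_pair {R : Type*} [CommRing R] {a b : R} {P E : Type*} [AddCommGroup P]
    [Module R P] [AddCommGroup E] [Module R E] (φ : P →ₗ[R] E) (h : IsPair a b P)
    (hE : ∀ e : E, a • e = 0 → e = 0) (hker : ∀ k, φ k = 0 → ∃ n : ℕ, a ^ n • k = 0)
    (hra : ∀ e, ∃ (n : ℕ) (p : P), φ p = a ^ n • e) (hrb : ∀ e, ∃ (n : ℕ) (p : P), φ p = b ^ n • e) :
    Bijective φ := by
  have hpow : ∀ (n : ℕ) (p : P), a ^ n • p = 0 → p = 0 := fun n => by
    induction n with
    | zero => intro p hp; simpa using hp
    | succ n ih => intro p hp; exact ih p (h.1 _ (by rwa [pow_succ', mul_smul] at hp))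
  have hpowE : ∀ (n : ℕ) (e : E), a ^ n • e = 0 → e = 0 := fun n => by
    induction n with
    | zero => intro p hp; simpa using hp
    | succ n ih => intro p hp; exact ih p (hE _ (by rwa [pow_succ', mul_smul] at hp))
  have hinj : Injective φ := by
    rw [injective_iff_map_eq_zero]
    intro k hk
    obtain ⟨n, hn⟩ := hker k hk
    exact hpow n k hn
  refine ⟨hinj, fun e => ?_⟩
  obtain ⟨n, p, hp⟩ := hra e
  obtain ⟨m, q, hq⟩ := hrb e
  obtain ⟨r, rfl⟩ := h.pow n m p q (hinj (by rw [map_smul, map_smul, hp, hq, smul_comm]))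
  exact ⟨r, sub_eq_zero.1 (hpowE n _ (by rw [smul_sub, ← map_smul, hp, sub_self]))⟩

/-- Regular pairs survive flat base change. -/
theorem IsPair.baseChange {A B : Type v} [CommRing A] [CommRing B] [Algebra A B] [Module.Flat A B]
    {a b : A} {N P : Type v} [AddCommGroup N] [Module A N] [AddCommGroup P] [Module A P] [Module B P]
    [IsScalarTower A B P] {g : N →ₗ[A] P} (hg : IsBaseChange B g) (h : IsPair a b N) :
    IsPair a b P := by
  have hsm : ∀ (c : A) (z : B ⊗[A] N), hg.equiv ((c • LinearMap.id : N →ₗ[A] N).lTensor B z) = c • hg.equiv z := by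
    intro c z
    rw [← LinearEquiv.restrictScalars_apply A hg.equiv, ← LinearEquiv.restrictScalars_apply A hg.equiv]
    rw [LinearMap.lTensor_smul, LinearMap.smul_apply, LinearMap.lTensor_id, LinearMap.id_apply,
      map_smul]
  refine ⟨fun p hp => ?_, fun p p' hp => ?_⟩
  · obtain ⟨z, rfl⟩ := hg.equiv.surjective p
    have hinj : Injective ((a • LinearMap.id : N →ₗ[A] N).lTensor B) :=
      Module.Flat.lTensor_preserves_injective_linearMap _ fun x y hxy => sub_eq_zero.1 (h.1 _ (by
        rw [smul_sub]; exact sub_eq_zero.2 hxy))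
    rw [← hsm] at hp
    rw [hinj (((hg.equiv.map_eq_zero_iff).1 hp).trans (map_zero _).symm), map_zero]
  · let mk := (LinearMap.range (a • LinearMap.id : N →ₗ[A] N)).mkQ
    obtain ⟨z, rfl⟩ := hg.equiv.surjective p
    obtain ⟨z', rfl⟩ := hg.equiv.surjective p'
    rw [← hsm, ← hsm] at hp
    have hex := lTensor_exact B
      (f := (a • LinearMap.id : N →ₗ[A] N)) (g := mk) (LinearMap.exact_map_mkQ_range _)
      (Submodule.mkQ_surjective _)
    have hb : Injective ((b • LinearMap.id : (N ⧸ LinearMap.range (a • LinearMap.id : N →ₗ[A] N)) →ₗ[A] _).lTensor B) := by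
      refine Module.Flat.lTensor_preserves_injective_linearMap _ ((injective_iff_map_eq_zero _).2 fun x hx => ?_)
      obtain ⟨x, rfl⟩ := Submodule.mkQ_surjective _ x
      have hx' : b • x ∈ LinearMap.range (a • LinearMap.id : N →ₗ[A] N) := by
        rw [← Submodule.Quotient.mk_eq_zero, Submodule.Quotient.mk_smul]; exact hx
      obtain ⟨w, hw⟩ := hx'
      obtain ⟨r, hr⟩ := h.2 x w hw.symm
      exact (Submodule.Quotient.mk_eq_zero _).2 ⟨r, hr.symm⟩
    have hz : mk.lTensor B z = 0 := by
      refine hb (Eq.trans ?_ (map_zero (LinearMap.lTensor B (b • LinearMap.id))).symm)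
      have h0 : mk.lTensor B ((b • LinearMap.id : N →ₗ[A] N).lTensor B z) = 0 := by
        rw [hg.equiv.injective hp]; exact hex.apply_apply_eq_zero z'
      simp only [LinearMap.lTensor_smul, LinearMap.smul_apply, LinearMap.lTensor_id, LinearMap.id_apply,
        map_smul] at h0 ⊢
      exact h0
    obtain ⟨w, hw⟩ := (hex z).1 hz
    exact ⟨hg.equiv w, by rw [← hw, hsm]⟩

/-- A regular pair on a ring is regular on free modules. -/
theorem IsPair.of_equiv {R : Type*} [CommRing R] {a b : R} (h : IsPair a b R) {ι : Type*} {E : Type*}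
    [AddCommGroup E] [Module R E] (e : E ≃ₗ[R] (ι → R)) : IsPair a b E := by
  refine ⟨fun p hp => e.injective ?_, fun p p' hp => ?_⟩
  · rw [map_zero]
    exact funext fun i => h.1 _ (congrFun ((map_smul e a p).symm.trans ((congrArg e hp).trans (map_zero e))) i)
  · choose r hr using fun i => h.2 (e p i) (e p' i)
      (congrFun ((map_smul e b p).symm.trans ((congrArg e hp).trans (map_smul e a p'))) i)
    exact ⟨e.symm r, e.injective (funext fun i => by simp [hr i])⟩

/-- The rank of a bijective square-or-rectangular matrix. -/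
theorem card_eq_of_bijective {R : Type*} [CommRing R] [Nontrivial R] {n r : ℕ}
    (φ : (Fin n → R) →ₗ[R] (Fin r → R)) (h : Bijective φ) : n = r := by
  simpa using (LinearEquiv.ofBijective φ h).finrank_eq

/-- Freeness descends along flat local homomorphisms. -/
theorem exists_basis_of_descent {A B : Type v} [CommRing A] [CommRing B] [IsLocalRing A] [IsLocalRing B]
    [Algebra A B] [IsLocalHom (algebraMap A B)] [Module.Flat A B] {N P : Type v} [AddCommGroup N]
    [Module A N] [AddCommGroup P] [Module A P] [Module B P] [IsScalarTower A B P] {g : N →ₗ[A] P}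
    (hg : IsBaseChange B g) [Module.Finite B P] [Module.Flat B P] :
    ∃ n, Nonempty (Module.Basis (Fin n) A N) := by
  haveI : Module.FaithfullyFlat A B := Module.FaithfullyFlat.of_flat_of_isLocalHom
  haveI : Module.Finite B (B ⊗[A] N) := Module.Finite.equiv hg.equiv.symm
  haveI : Module.Flat B (B ⊗[A] N) := Module.Flat.of_linearEquiv hg.equiv
  haveI : Module.Finite A N := Module.Finite.of_finite_tensorProduct_of_faithfullyFlat B
  haveI : Module.Flat A N := by
    rw [Module.Flat.iff_lTensor_preserves_injective_linearMap]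
    intro X Y _ _ _ _ f hf
    haveI : Module.Flat A (B ⊗[A] N) := Module.Flat.trans A B _
    have h1 : Injective (f.lTensor (B ⊗[A] N)) := Module.Flat.lTensor_preserves_injective_linearMap f hf
    rw [← Module.FaithfullyFlat.lTensor_injective_iff_injective A B (f.lTensor N)]
    intro x y hxy
    obtain ⟨x, rfl⟩ := (TensorProduct.assoc A B N X).surjective x
    obtain ⟨y, rfl⟩ := (TensorProduct.assoc A B N X).surjective y
    refine congrArg _ (h1 ((TensorProduct.assoc A B N Y).injective ?_))
    have e : ∀ z, TensorProduct.assoc A B N Y (f.lTensor (B ⊗[A] N) z) =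
        (f.lTensor N).lTensor B (TensorProduct.assoc A B N X z) := fun z => by
      rw [LinearMap.lTensor_tensor]; simp
    rw [e, e, hxy]
  haveI : Module.Free A N := Module.free_of_flat_of_isLocalRing
  exact ⟨_, ⟨Module.finBasis A N⟩⟩

end Groth.Agent.FlatMor.NormalBase
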