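import Groth.Agent.LFFrame.Basic
import Groth.Agent.FlatMor.NormalBase.Algebra
import Mathlib.AlgebraicGeometry.Morphisms.Proper
import Mathlib.LinearAlgebra.Matrix.ToLin
import Mathlib.LinearAlgebra.Matrix.NonsingularInverse

/-!
# Spreading frames from stalks
-/

set_option autoImplicit false
set_option backward.isDefEq.respectTransparency false
set_option linter.style.haveILetI false

universe u

open CategoryTheory CategoryTheory.Limits AlgebraicGeometry TopologicalSpace Opposite
open Groth.Agent.PullStalk.Sky Groth.Agent.PullStalk.Exact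
open Function

namespace Groth.Agent.FlatMor.NormalBase

open LFFrame

variable {X S : Scheme.{u}}

lemma stalkComb_apply (M : X.Modules) {U : X.Opens} {n : ℕ} (e : Fin n → Γ(M, U)) (x : X) (hx : x ∈ U)
    (a : Fin n → X.presheaf.stalk x) :
    stalkComb M e x hx a = ∑ i, a i • germM M U x hx (e i) := by
  simp [stalkComb, Fintype.linearCombination_apply]

lemma germM_res (M : X.Modules) {U V : X.Opens} (h : V ≤ U) (x : X) (hx : x ∈ V) (m : Γ(M, U)) :
    germM M V x hx (M.presheaf.map (homOfLE h).op m) = germM M U x (h hx) m :=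
  M.presheaf.germ_res_apply (homOfLE h) x hx m

lemma stalkComb_res (M : X.Modules) {U V : X.Opens} (h : V ≤ U) {n : ℕ} (e : Fin n → Γ(M, U)) (x : X)
    (hx : x ∈ V) :
    stalkComb M (fun i => M.presheaf.map (homOfLE h).op (e i)) x hx = stalkComb M e x (h hx) := by
  refine LinearMap.ext fun a => ?_
  simp only [stalkComb_apply, germM_res]

lemma isFrame_res {M : X.Modules} {U V : X.Opens} (h : V ≤ U) {n : ℕ} {e : Fin n → Γ(M, U)}
    (he : IsFrame M U e) : IsFrame M V (fun i => M.presheaf.map (homOfLE h).op (e i)) :=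
  isFrame_of_stalkComb_bijective fun x hx => by
    rw [stalkComb_res M h e x hx]
    exact he.stalkComb_bijective x (h hx)

/-- A square matrix is bijective iff it is invertible. -/
lemma mulVec_bijective_iff {R : Type u} [CommRing R] {n : ℕ} {A : Matrix (Fin n) (Fin n) R} :
    Bijective A.mulVecLin ↔ IsUnit A := by
  refine ⟨fun h => Matrix.mulVec_surjective_iff_isUnit.1 h.2, fun h => ⟨?_, Matrix.mulVec_surjective_iff_isUnit.2 h⟩⟩
  exact Matrix.mulVec_injective_of_isUnit h

/-- Being a basis on stalks spreads to a neighbourhood. -/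
theorem exists_nhd_stalkComb_bijective {E : X.Modules} (hE : FlatMod.IsFinLocFree E) {U : X.Opens}
    {n : ℕ} (e : Fin n → Γ(E, U)) (x : X) (hx : x ∈ U) (h : Bijective (stalkComb E e x hx)) :
    ∃ W : X.Opens, x ∈ W ∧ ∀ (z : X) (hz : z ∈ U), z ∈ W → Bijective (stalkComb E e z hz) := by
  classical
  obtain ⟨W0, r, d, hxW0, hd⟩ := exists_isFrame_of_isFinLocFree hE x
  let W1 : X.Opens := W0 ⊓ U
  have hW1 : x ∈ W1 := ⟨hxW0, hx⟩
  choose c hc using fun k => (hd W1 inf_le_left).2 (E.presheaf.map (homOfLE (inf_le_right : W1 ≤ U)).op (e k))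
  let mz : ∀ z, z ∈ W1 → Matrix (Fin r) (Fin n) (X.presheaf.stalk z) := fun z hz =>
    Matrix.of fun i k => X.presheaf.germ W1 z hz (c k i)
  have hcomp : ∀ z (hz : z ∈ W1),
      stalkComb E e z hz.2 = stalkComb E d z hz.1 ∘ₗ (mz z hz).mulVecLin := by
    intro z hz
    refine LinearMap.pi_ext' fun k => LinearMap.ext_ring ?_
    simp only [LinearMap.comp_apply, LinearMap.single_apply, Matrix.mulVecLin_apply,
      Matrix.mulVec_single_one]
    rw [stalkComb_apply, stalkComb_apply, Finset.sum_eq_single k]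
    · rw [Pi.single_eq_same, one_smul]
      conv_lhs => rw [← germM_res E (inf_le_right : W1 ≤ U) z hz (e k), ← hc k, germ_comb]
      rfl
    · intro i _ hik
      rw [Pi.single_eq_of_ne hik, zero_smul]
    · simp
  have hdx := hd.stalkComb_bijective x hxW0
  have hmx : Bijective (mz x hW1).mulVecLin := by
    rw [← Function.Bijective.of_comp_iff' hdx]
    have := h
    rw [hcomp x hW1, LinearMap.coe_comp] at this
    exact this
  obtain rfl : n = r := card_eq_of_bijective _ hmx
  let D := (Matrix.of fun i k => c k i).det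
  have hD : ∀ z (hz : z ∈ W1), X.presheaf.germ W1 z hz D = (mz z hz).det := fun z hz =>
    (RingHom.map_det (X.presheaf.germ W1 z hz).hom _)
  refine ⟨X.basicOpen D, ?_, fun z hz hzD => ?_⟩
  · rw [X.mem_basicOpen D x hW1, hD, ← Matrix.isUnit_iff_isUnit_det, ← mulVec_bijective_iff]
    exact hmx
  · have hz1 : z ∈ W1 := X.basicOpen_le D hzD
    rw [hcomp z hz1, LinearMap.coe_comp]
    refine (hd.stalkComb_bijective z hz1.1).comp ?_
    rw [X.mem_basicOpen D z hz1, hD, ← Matrix.isUnit_iff_isUnit_det,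
      ← mulVec_bijective_iff] at hzD
    exact hzD

/-- Sections which are bases along a fibre of a closed map form a frame near it. -/
theorem exists_isFrame_over (f : X ⟶ S) [UniversallyClosed f] {E : X.Modules} (hE : FlatMod.IsFinLocFree E)
    {V : S.Opens} {n : ℕ} (e : Fin n → Γ(E, f ⁻¹ᵁ V)) (s : S) (hs : s ∈ V)
    (h : ∀ (x : X) (hx : x ∈ f ⁻¹ᵁ V), f x = s → Bijective (stalkComb E e x hx)) :
    ∃ (V' : S.Opens) (e' : Fin n → Γ(E, f ⁻¹ᵁ V')), s ∈ V' ∧ IsFrame E (f ⁻¹ᵁ V') e' := by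
  choose W hxW hW using fun x : {x : X // f x = s} =>
    exists_nhd_stalkComb_bijective hE e x.1 (show f x.1 ∈ V by rw [x.2]; exact hs) (h x.1 _ x.2)
  let O : Set X := ⋃ x, ((W x : X.Opens) : Set X)
  let V' : S.Opens := ⟨(V : Set S) ∩ (f '' Oᶜ)ᶜ,
    V.2.inter (f.isClosedMap _ (isOpen_iUnion fun x => (W x).2).isClosed_compl).isOpen_compl⟩
  have hle : V' ≤ V := Set.inter_subset_left
  have hs' : s ∈ V' := ⟨hs, fun ⟨x, hx, hxs⟩ => hx (Set.mem_iUnion.2 ⟨⟨x, hxs⟩, hxW _⟩)⟩
  refine ⟨V', fun i => E.presheaf.map (homOfLE (f.preimage_mono hle)).op (e i), hs',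
    isFrame_of_stalkComb_bijective fun z hz => ?_⟩
  rw [stalkComb_res E (f.preimage_mono hle) e z hz]
  obtain ⟨x, hzx⟩ := Set.mem_iUnion.1 (not_not.1 fun hn => hz.2 ⟨z, hn, rfl⟩ : z ∈ O)
  exact hW x z _ hzx

/-- A morphism bijective on small opens is bijective on stalks. -/
theorem stalkLin_bijective {M N : X.Modules} (φ : M ⟶ N) {U : X.Opens}
    (hU : ∀ V ≤ U, Bijective (φ.app V)) (x : X) (hxU : x ∈ U) : Bijective (stalkLin φ x) := by
  constructor
  · rw [injective_iff_map_eq_zero]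
    intro t ht
    obtain ⟨W, hxW, m, rfl⟩ := exists_germM_eq M x t
    rw [stalkLin_germ] at ht
    obtain ⟨W', hxW', i₁, i₂, h1⟩ := N.presheaf.germ_eq x hxW hxW (φ.app W m) 0
      (ht.trans (map_zero (N.presheaf.germ W x hxW).hom).symm)
    have h2 : φ.app (W' ⊓ U) (M.presheaf.map (homOfLE (inf_le_left.trans i₁.le)).op m) =
        φ.app (W' ⊓ U) 0 := by
      rw [map_zero]
      refine (NatTrans.naturality_apply φ.mapPresheaf
        (homOfLE (inf_le_left.trans i₁.le : W' ⊓ U ≤ W)).op m).trans ?_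
      change N.presheaf.map _ (φ.app W m) = 0
      rw [← res_res N i₁.le (inf_le_left : W' ⊓ U ≤ W')]
      rw [show N.presheaf.map (homOfLE i₁.le).op (φ.app W m) = N.presheaf.map i₂.op 0 from h1,
        map_zero, map_zero]
    have h3 := (hU _ inf_le_right).1 h2
    rw [germM, ← M.presheaf.germ_res_apply (homOfLE (inf_le_left.trans i₁.le : W' ⊓ U ≤ W)) x
      ⟨hxW', hxU⟩ m, h3, map_zero]
  · intro t
    obtain ⟨W, hxW, m, rfl⟩ := exists_germM_eq N x t
    obtain ⟨s, hs⟩ := (hU (W ⊓ U) inf_le_right).2 (N.presheaf.map (homOfLE inf_le_left).op m)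
    refine ⟨germM M (W ⊓ U) x ⟨hxW, hxU⟩ s, ?_⟩
    rw [stalkLin_germ, hs]
    exact N.presheaf.germ_res_apply (homOfLE (inf_le_left : W ⊓ U ≤ W)) x ⟨hxW, hxU⟩ m

/-- Germs of scalar multiples. -/
lemma germ_eq_of_germ {M : X.Modules} {U : X.Opens} (m m' : Γ(M, U))
    (h : ∀ (x : X) (hx : x ∈ U), germM M U x hx m = germM M U x hx m') : m = m' :=
  TopCat.Presheaf.section_ext ⟨M.presheaf, M.isSheaf⟩ U m m' h

end Groth.Agent.FlatMor.NormalBase
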