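import Groth.Agent.FlatMor.NormalBase.Frame
import Groth.Agent.FDesc.BaseChangeStalk
import Mathlib.AlgebraicGeometry.Noetherian

/-!
# Frames near a fibre from freeness over the local scheme
-/

set_option autoImplicit false
set_option backward.isDefEq.respectTransparency false
set_option linter.style.haveILetI false

universe u

open CategoryTheory CategoryTheory.Limits AlgebraicGeometry TopologicalSpace Opposite
open Groth.Agent.PullStalk.Sky Groth.Agent.PullStalk.Exact Groth.Agent.PullStalk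
open Function

namespace Groth.Agent.FlatMor.NormalBase

open LFFrame

variable {X S P : Scheme.{u}}

/-- A module isomorphic to a free one has a global frame. -/
theorem exists_isFrame_top {F : P.Modules} {n : ℕ} (φ : F ≅ FlatMod.freeMod P n) :
    ∃ e : Fin n → Γ(F, ⊤), IsFrame F ⊤ e := by
  classical
  let R := Scheme.Modules.restrictFunctor (⊤ : P.Opens).ι
  haveI : R.Additive := ⟨fun {X Y f g} => rfl⟩
  let u : R.obj (Coh.structureModule P) ≅ Coh.structureModule ((⊤ : P.Opens) : Scheme.{u}) :=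
    Scheme.Modules.restrictUnitIso _
  let p : Fin n → (FlatMod.freeMod P n ⟶ Coh.structureModule P) :=
    fun j => Sigma.desc fun i => if i = j then 𝟙 _ else 0
  have hsum : ∑ i, (φ.hom ≫ p i) ≫ (Sigma.ι (fun _ : Fin n => Coh.structureModule P) i ≫ φ.inv) = 𝟙 F := by
    rw [← cancel_epi φ.inv, ← cancel_mono φ.hom]
    apply Sigma.hom_ext
    intro j
    simp [p, Preadditive.comp_sum, Preadditive.sum_comp, Finset.sum_ite_eq', ite_comp]
  have hδ : ∀ i j, (Sigma.ι (fun _ : Fin n => Coh.structureModule P) i ≫ φ.inv) ≫ φ.hom ≫ p j =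
      if i = j then 𝟙 _ else 0 := fun i j => by simp [p]
  exact exists_isFrame_of_split (M := F)
    (fun i => u.inv ≫ R.map (Sigma.ι (fun _ : Fin n => Coh.structureModule P) i ≫ φ.inv))
    (fun j => R.map (φ.hom ≫ p j) ≫ u.hom)
    (fun i j => by
      rw [Category.assoc, ← R.map_comp_assoc, hδ]
      split_ifs <;> simp)
    (by
      simp only [Category.assoc, Iso.hom_inv_id_assoc, ← R.map_comp]
      rw [← Functor.map_sum]
      simp only [Category.assoc] at hsum
      rw [hsum, R.map_id])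

/-- Stalk maps of flat preimmersions are bijective. -/
theorem stalkMap_bijective (π : P ⟶ X) [Flat π] [IsPreimmersion π] (q : P) :
    Bijective (π.stalkMap q) := by
  refine ⟨?_, π.stalkMap_surjective q⟩
  letI := (π.stalkMap q).hom.toAlgebra
  haveI : Module.Flat (X.presheaf.stalk (π q)) (P.presheaf.stalk q) := Flat.stalkMap π q
  haveI : IsLocalHom (algebraMap (X.presheaf.stalk (π q)) (P.presheaf.stalk q)) :=
    inferInstanceAs (IsLocalHom (π.stalkMap q).hom)
  haveI : Module.FaithfullyFlat (X.presheaf.stalk (π q)) (P.presheaf.stalk q) :=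
    Module.FaithfullyFlat.of_flat_of_isLocalHom
  exact FaithfulSMul.algebraMap_injective _ _

/-- The unit on stalks along a flat preimmersion is bijective. -/
theorem unitStalkHom_bijective (π : P ⟶ X) [Flat π] [IsPreimmersion π] (M : X.Modules) (q : P) :
    Bijective (Basic.unitStalkHom π M q) := by
  letI := (π.stalkMap q).hom.toAlgebra
  letI := Basic.moduleOver π M q
  haveI : IsScalarTower (X.presheaf.stalk (π q)) (P.presheaf.stalk q)
      (((Scheme.Modules.pullback π).obj M).presheaf.stalk q) :=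
    IsScalarTower.of_algebraMap_smul fun _ _ => rfl
  have hb := Basic.isBaseChange_unitStalk π M q
  have ha : Bijective (algebraMap (X.presheaf.stalk (π q)) (P.presheaf.stalk q)) :=
    stalkMap_bijective π q
  let e := RingEquiv.ofBijective _ ha
  letI : Module (P.presheaf.stalk q) (M.presheaf.stalk (π q)) := Module.compHom _ e.symm.toRingHom
  haveI : IsScalarTower (X.presheaf.stalk (π q)) (P.presheaf.stalk q) (M.presheaf.stalk (π q)) :=
    IsScalarTower.of_algebraMap_smul fun r m => by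
      show e.symm (e r) • m = r • m
      rw [e.symm_apply_apply]
  refine ⟨fun a b hab => ?_, fun t => ?_⟩
  · have h1 : ∀ c, hb.lift LinearMap.id (Basic.unitStalk π M q c) = c := fun c => hb.lift_eq _ c
    rw [← h1 a, ← h1 b]
    exact congrArg _ hab
  · refine hb.inductionOn t (fun t => ∃ a, Basic.unitStalkHom π M q a = t) ⟨0, map_zero _⟩
      (fun m => ⟨m, rfl⟩) ?_ ?_
    · rintro c _ ⟨m, rfl⟩
      obtain ⟨r, rfl⟩ := ha.2 c
      exact ⟨r • m, Basic.unitStalkHom_smul π M q r m⟩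
    · rintro _ _ ⟨a, rfl⟩ ⟨b, rfl⟩
      exact ⟨a + b, map_add _ _ _⟩

/-- Points outside a set meeting no generization of `s` have images whose closures avoid `s`. -/
theorem exists_nhd_of_locally_closed [IsNoetherian X] (f : X ⟶ S) (s : S) (U : X.Opens) (C : Set X)
    (hCU : C ⊆ U) (hC : IsClosed ((U : Set X)ᶜ ∪ C)) (h : ∀ z ∈ C, ¬ f z ⤳ s) :
    ∃ V : S.Opens, s ∈ V ∧ ∀ z ∈ C, f z ∉ V := by
  classical
  obtain ⟨T, hTf, hT, hTs⟩ :=
    NoetherianSpace.exists_finite_set_closeds_irreducible (⟨closure C, isClosed_closure⟩ : Closeds X)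
  lift T to Finset (Closeds X) using hTf
  let gens : Finset X := T.attach.image fun t => (hT t.1 t.2).genericPoint
  let G : Finset X := gens.filter fun y => y ∈ U
  have hG : ∀ y ∈ G, y ∈ C := fun y hy => by
    obtain ⟨hy1, hy2⟩ := Finset.mem_filter.1 hy
    obtain ⟨⟨t, ht⟩, -, rfl⟩ := Finset.mem_image.1 hy1
    have h1 : (t : Set X) ⊆ closure C := by
      intro w hw
      have : t ≤ (⟨closure C, isClosed_closure⟩ : Closeds X) := hTs ▸ le_sSup ht
      exact this hw
    have h2 : closure C ⊆ (U : Set X)ᶜ ∪ C := closure_minimal Set.subset_union_right hC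
    refine ((h2 (h1 ?_)).resolve_left fun hn => hn hy2)
    exact ((hT t ht).isGenericPoint_genericPoint t.isClosed).mem
  refine ⟨⟨(⋃ y ∈ G, closure ({f y} : Set S))ᶜ,
    (G.finite_toSet.isClosed_biUnion fun _ _ => isClosed_closure).isOpen_compl⟩, ?_, fun z hz hzV => hzV ?_⟩
  · intro hs
    obtain ⟨y, hy, hys⟩ := Set.mem_iUnion₂.1 hs
    exact h y (hG y hy) (specializes_iff_mem_closure.2 hys)
  · obtain ⟨t, ht, hzt⟩ : ∃ t ∈ T, z ∈ (t : Set X) := by
      have h1 : z ∈ ((⟨closure C, isClosed_closure⟩ : Closeds X) : Set X) := subset_closure hz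
      rw [hTs, ← Finset.sup_id_eq_sSup, Closeds.coe_finset_sup] at h1
      simpa [Finset.sup_eq_iSup] using h1
    have hsp : (hT t ht).genericPoint ⤳ z := by
      rw [specializes_iff_mem_closure, (hT t ht).closure_genericPoint t.isClosed]
      exact hzt
    refine Set.mem_iUnion₂.2 ⟨_, Finset.mem_filter.2 ⟨Finset.mem_image.2 ⟨⟨t, ht⟩, Finset.mem_attach _ _, rfl⟩,
      hsp.mem_open U.2 (hCU hz)⟩, ?_⟩
    rw [← specializes_iff_mem_closure]
    exact hsp.map f.continuous

set_option maxHeartbeats 1600000 in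
/-- Freeness over the local scheme gives a frame near the fibre. -/
theorem exists_isFrame_of_free_local [IsNoetherian X] (f : X ⟶ S) [UniversallyClosed f]
    {E : X.Modules} (hE : FlatMod.IsFinLocFree E) (s : S) (π : P ⟶ X) [Flat π] [IsPreimmersion π]
    (hπ : ∀ x, f x ⤳ s → x ∈ Set.range π) (hπ' : ∀ q, f (π q) ⤳ s)
    {n : ℕ} (φ : (Scheme.Modules.pullback π).obj E ≅ FlatMod.freeMod P n) :
    ∃ (V : S.Opens) (e : Fin n → Γ(E, f ⁻¹ᵁ V)), s ∈ V ∧ IsFrame E (f ⁻¹ᵁ V) e := by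
  classical
  let F := (Scheme.Modules.pullback π).obj E
  obtain ⟨e', he'⟩ := exists_isFrame_top φ
  -- a section near each point of the fibre
  have hloc : ∀ x : {x : X // f x = s}, ∃ (U : X.Opens) (σ : Fin n → Γ(E, U)), x.1 ∈ U ∧
      ∀ (q : P) (hq : π q ∈ U) (k : Fin n),
        Basic.unitStalkHom π E q (germM E U (π q) hq (σ k)) = germM F ⊤ q trivial (e' k) := by
    rintro ⟨x, hx⟩
    obtain ⟨q, rfl⟩ := hπ x (by rw [hx])
    choose t ht using fun k => (unitStalkHom_bijective π E q).2 (germM F ⊤ q trivial (e' k))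
    choose U hqU σ hσ using fun k => exists_germM_eq E (π q) (t k)
    let U' : X.Opens := ⟨⋂ k, (U k : Set X), isOpen_iInter_of_finite fun k => (U k).2⟩
    have hU' : ∀ k, U' ≤ U k := fun k => Set.iInter_subset _ k
    have hqU' : π q ∈ U' := Set.mem_iInter.2 hqU
    have key : ∀ k, ∃ O : P.Opens, q ∈ O ∧ ∀ (q' : P), q' ∈ O → ∀ hq' : π q' ∈ U k,
        Basic.unitStalkHom π E q' (germM E (U k) (π q') hq' (σ k)) = germM F ⊤ q' trivial (e' k) := by
      intro k
      have h1 : germM F (π ⁻¹ᵁ U k) q (hqU k)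
          (((Scheme.Modules.pullbackPushforwardAdjunction π).unit.app E).app (U k) (σ k)) =
          germM F ⊤ q trivial (e' k) := by
        rw [← ht k, ← hσ k, Basic.unitStalkHom_germ]
      obtain ⟨O, hqO, i₁, i₂, hO⟩ := F.presheaf.germ_eq (U := π ⁻¹ᵁ U k) (V := ⊤) q (hqU k) trivial _ _ h1
      refine ⟨O, hqO, fun q' hq' hq'U => ?_⟩
      rw [Basic.unitStalkHom_germ]
      exact (F.presheaf.germ_res_apply i₁ q' hq' _).symm.trans
        ((congrArg _ hO).trans (F.presheaf.germ_res_apply i₂ q' hq' _))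
    choose O hqO hO using key
    choose O' hO'o hO'eq using fun k => π.isEmbedding.isInducing.isOpen_iff.1 (O k).2
    let U'' : X.Opens := ⟨(U' : Set X) ∩ ⋂ k, O' k, U'.2.inter (isOpen_iInter_of_finite hO'o)⟩
    have hU'' : ∀ k, U'' ≤ U k := fun k z hz => hU' k hz.1
    refine ⟨U'', fun k => E.presheaf.map (homOfLE (hU'' k)).op (σ k),
      ⟨hqU', Set.mem_iInter.2 fun k => ?_⟩, fun q' hq' k => ?_⟩
    · have : q ∈ π ⁻¹' O' k := by rw [hO'eq k]; exact hqO k
      exact this
    · rw [germM_res E (hU'' k) (π q') hq']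
      refine hO k q' ?_ _
      have : q' ∈ π ⁻¹' O' k := Set.mem_iInter.1 hq'.2 k
      rwa [hO'eq k] at this
  choose U σ hxU hσ using hloc
  obtain ⟨t, ht⟩ := (NoetherianSpace.isCompact (f ⁻¹' {s})).elim_finite_subcover
    (fun x => (U x : Set X)) (fun x => (U x).2)
    fun z hz => Set.mem_iUnion.2 ⟨⟨z, hz⟩, hxU ⟨z, hz⟩⟩
  -- where two of them differ
  have hC : ∀ x y : {x : X // f x = s}, ∃ V : S.Opens, s ∈ V ∧ ∀ (z : X) (hx : z ∈ U x) (hy : z ∈ U y),
      f z ∈ V → ∀ k, germM E (U x) z hx (σ x k) = germM E (U y) z hy (σ y k) := by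
    intro x y
    let C : Set X := {z | ∃ hz : z ∈ U x ⊓ U y,
      ∃ k, germM E (U x) z hz.1 (σ x k) ≠ germM E (U y) z hz.2 (σ y k)}
    have hclosed : IsClosed (((U x ⊓ U y : X.Opens) : Set X)ᶜ ∪ C) := by
      rw [← isOpen_compl_iff, isOpen_iff_forall_mem_open]
      intro z hz
      have hzU : z ∈ U x ⊓ U y := not_not.1 fun hn => hz (Or.inl hn)
      have hk : ∀ k, ∃ O : X.Opens, z ∈ O ∧ ∀ z' ∈ O, ∀ (h1 : z' ∈ U x) (h2 : z' ∈ U y),
          germM E (U x) z' h1 (σ x k) = germM E (U y) z' h2 (σ y k) := fun k => by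
        obtain ⟨O, hzO, i₁, i₂, hO⟩ := E.presheaf.germ_eq z hzU.1 hzU.2 (σ x k) (σ y k)
          (not_not.1 fun hn => hz (Or.inr ⟨hzU, k, hn⟩))
        exact ⟨O, hzO, fun z' hz' h1 h2 => (E.presheaf.germ_res_apply i₁ z' hz' _).symm.trans
          ((congrArg _ hO).trans (E.presheaf.germ_res_apply i₂ z' hz' _))⟩
      choose O hzO hO using hk
      refine ⟨((U x ⊓ U y : X.Opens) : Set X) ∩ ⋂ k, (O k : Set X), ?_,
        (U x ⊓ U y).2.inter (isOpen_iInter_of_finite fun k => (O k).2), hzU, Set.mem_iInter.2 hzO⟩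
      rintro z' ⟨hz'U, hz'O⟩ (hn | ⟨_, k, hk⟩)
      · exact hn hz'U
      · exact hk (hO k z' (Set.mem_iInter.1 hz'O k) _ _)
    obtain ⟨V, hsV, hV⟩ := exists_nhd_of_locally_closed f s (U x ⊓ U y) C (fun z hz => hz.1) hclosed
      (by
        rintro z ⟨hzU, k, hk⟩ hsp
        obtain ⟨q, rfl⟩ := hπ z hsp
        exact hk ((unitStalkHom_bijective π E q).1 ((hσ x q hzU.1 k).trans (hσ y q hzU.2 k).symm)))
    exact ⟨V, hsV, fun z hx hy hzV k => not_not.1 fun hn => hV z ⟨⟨hx, hy⟩, k, hn⟩ hzV⟩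
  choose V hsV hV using hC
  let O : Set X := ⋃ x ∈ t, (U x : Set X)
  let V1 : S.Opens := ⟨(f '' Oᶜ)ᶜ ∩ ⋂ p ∈ t ×ˢ t, (V p.1 p.2 : Set S),
    ((f.isClosedMap _ (isOpen_biUnion fun x _ => (U x).2).isClosed_compl).isOpen_compl).inter
      ((t ×ˢ t).finite_toSet.isOpen_biInter fun p _ => (V p.1 p.2).2)⟩
  have hsV1 : s ∈ V1 := ⟨fun ⟨z, hz, hzs⟩ => hz (ht hzs),
    Set.mem_iInter₂.2 fun p _ => hsV p.1 p.2⟩
  let W : t → X.Opens := fun x => U x ⊓ f ⁻¹ᵁ V1
  have hcov : f ⁻¹ᵁ V1 ≤ iSup W := fun z hz => by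
    obtain ⟨x, hxt, hzx⟩ := Set.mem_iUnion₂.1 (not_not.1 fun hn => hz.1 ⟨z, hn, rfl⟩ : z ∈ O)
    exact Opens.mem_iSup.2 ⟨⟨x, hxt⟩, hzx, hz⟩
  choose m hm _ using fun k => TopCat.Sheaf.existsUnique_gluing'
    (⟨E.presheaf, E.isSheaf⟩ : TopCat.Sheaf Ab.{u} X) W (f ⁻¹ᵁ V1) (fun x => homOfLE inf_le_right) hcov
    (fun x => E.presheaf.map (homOfLE (inf_le_left : W x ≤ U x)).op (σ x k)) (by
      intro x y
      refine germ_eq_of_germ _ _ fun z hz => ?_
      refine ((germM_res E (inf_le_left : W x ⊓ W y ≤ W x) z hz _).trans (germM_res E _ z _ _)).trans ?_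
      refine Eq.trans ?_ ((germM_res E (inf_le_right : W x ⊓ W y ≤ W y) z hz _).trans (germM_res E _ z _ _)).symm
      exact hV x.1 y.1 z _ _ (Set.mem_iInter₂.1 hz.1.2.2 (x.1, y.1) (Finset.mk_mem_product x.2 y.2)) k)
  obtain ⟨V', e, hsV', he⟩ := exists_isFrame_over f hE m s hsV1 fun x hx hxs => by
    obtain ⟨q, rfl⟩ := hπ x (by rw [hxs])
    obtain ⟨x', hx't, hqx'⟩ := Set.mem_iUnion₂.1 (ht (show π q ∈ f ⁻¹' {s} from hxs))
    have hgerm : ∀ k, Basic.unitStalkHom π E q (germM E (f ⁻¹ᵁ V1) (π q) hx (m k)) =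
        germM F ⊤ q trivial (e' k) := fun k => by
      rw [← hσ x' q hqx' k]
      congr 1
      have hW : π q ∈ W ⟨x', hx't⟩ := ⟨hqx', hx⟩
      exact (germM_res E (inf_le_right : W ⟨x', hx't⟩ ≤ f ⁻¹ᵁ V1) (π q) hW (m k)).symm.trans
        ((congrArg (germM E _ (π q) hW) (hm k ⟨x', hx't⟩)).trans (germM_res E _ (π q) hW _))
    rw [← Function.Bijective.of_comp_iff' (unitStalkHom_bijective π E q)]
    have hcomp : Basic.unitStalkHom π E q ∘ stalkComb E m (π q) hx =
        stalkComb F e' q trivial ∘ (fun a k => π.stalkMap q (a k)) := by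
      funext a
      simp only [Function.comp_apply, stalkComb_apply, map_sum, Basic.unitStalkHom_smul, hgerm]
    rw [hcomp]
    exact (he'.stalkComb_bijective q trivial).comp
      (Function.Bijective.piMap fun _ => stalkMap_bijective π q)
  exact ⟨V', e, hsV', he⟩

end Groth.Agent.FlatMor.NormalBase
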