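import Groth.Agent.FlatMor.NormalBase.Frame
import Groth.Agent.QCoh.Qcqs
import Groth.Agent.QCoh.Pullback
import Mathlib.AlgebraicGeometry.Noetherian
import Mathlib.AlgebraicGeometry.Morphisms.Flat
import Mathlib.RingTheory.Localization.AtPrime.Basic

/-!
# Extending frames across a point of depth two
-/

set_option autoImplicit false
set_option backward.isDefEq.respectTransparency false
set_option linter.style.haveILetI false

universe u

open CategoryTheory CategoryTheory.Limits AlgebraicGeometry TopologicalSpace Opposite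
open Groth.Agent.PullStalk.Sky Groth.Agent.PullStalk.Exact Groth.Agent.PullStalk
open Function

namespace Groth.Agent.FlatMor.NormalBase

open LFFrame

/-- A regular pair at a prime is regular nearby. -/
theorem exists_pair_nhd {A : Type u} [CommRing A] [IsNoetherianRing A] (p : Ideal A) [p.IsPrime]
    {L : Type u} [CommRing L] [Algebra A L] [IsLocalization.AtPrime L p] (a b : A)
    (h : IsPair (algebraMap A L a) (algebraMap A L b) L) :
    ∃ g ∉ p, ∀ (q : Ideal A) [q.IsPrime] (L' : Type u) [CommRing L'] [Algebra A L']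
      [IsLocalization.AtPrime L' q], g ∉ q → IsPair (algebraMap A L' a) (algebraMap A L' b) L' := by
  classical
  let K₁ : Ideal A := LinearMap.ker (LinearMap.mulLeft A a)
  let K₂ : Ideal A := Submodule.comap (LinearMap.mulLeft A b) (Ideal.span {a})
  have hkill : ∀ (K : Ideal A) (I : Ideal A),
      (∀ x ∈ K, ∃ t : p.primeCompl, (t : A) * x ∈ I) → ∃ g ∉ p, ∀ x ∈ K, g * x ∈ I := by
    intro K I hK
    obtain ⟨G, hG⟩ := IsNoetherian.noetherian K
    choose! t ht using hK
    refine ⟨∏ x ∈ G, (t x : A), (p.primeCompl.prod_mem fun x _ => (t x).2), fun x hx => ?_⟩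
    rw [← hG] at hx
    induction hx using Submodule.span_induction with
    | mem x hxG =>
      rw [← Finset.mul_prod_erase _ _ hxG, mul_assoc, mul_comm _ x, ← mul_assoc]
      exact I.mul_mem_right _ (ht x (hG ▸ Submodule.subset_span hxG))
    | zero => rw [mul_zero]; exact I.zero_mem
    | add x y _ _ hx hy => rw [mul_add]; exact I.add_mem hx hy
    | smul c x _ hx => rw [smul_eq_mul, mul_left_comm]; exact I.mul_mem_left _ hx
  obtain ⟨g₁, hg₁, hg₁'⟩ := hkill K₁ ⊥ fun x hx => by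
    have h0 : algebraMap A L a * algebraMap A L x = 0 := by
      rw [← map_mul, show a * x = 0 from hx, map_zero]
    obtain ⟨t, ht⟩ := (IsLocalization.map_eq_zero_iff p.primeCompl L x).1 (h.1 _ h0)
    exact ⟨t, ht⟩
  obtain ⟨g₂, hg₂, hg₂'⟩ := hkill K₂ (Ideal.span {a}) fun x hx => by
    obtain ⟨w, hw⟩ := Ideal.mem_span_singleton.1 (show b * x ∈ Ideal.span {a} from hx)
    obtain ⟨r, hr⟩ := h.2 (algebraMap A L x) (algebraMap A L w) (by
      rw [smul_eq_mul, smul_eq_mul, ← map_mul, ← map_mul, hw])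
    obtain ⟨⟨r₀, t⟩, hrt⟩ := IsLocalization.surj p.primeCompl r
    rw [smul_eq_mul] at hr
    obtain ⟨t', ht'⟩ := (IsLocalization.eq_iff_exists p.primeCompl L).1
      (show algebraMap A L (t * x) = algebraMap A L (a * r₀) by
        rw [map_mul, map_mul, hr, ← hrt]; ring)
    exact ⟨t' * t, Ideal.mem_span_singleton.2 ⟨t' * r₀, by
      rw [Submonoid.coe_mul, mul_assoc, ht']; ring⟩⟩
  refine ⟨g₁ * g₂, (inferInstance : p.IsPrime).mul_notMem hg₁ hg₂, fun q _ L' _ _ _ hg => ?_⟩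
  have hg1 : IsUnit (algebraMap A L' g₁) :=
    IsLocalization.map_units L' (⟨g₁, fun hm => hg (q.mul_mem_right _ hm)⟩ : q.primeCompl)
  have hg2 : IsUnit (algebraMap A L' g₂) :=
    IsLocalization.map_units L' (⟨g₂, fun hm => hg (q.mul_mem_left _ hm)⟩ : q.primeCompl)
  refine ⟨fun x hx => ?_, fun x y hxy => ?_⟩
  · obtain ⟨⟨x₀, t⟩, hxt⟩ := IsLocalization.surj q.primeCompl x
    obtain ⟨t', ht'⟩ := (IsLocalization.map_eq_zero_iff q.primeCompl L' (a * x₀)).1 (by
      rw [map_mul, ← hxt, ← mul_assoc, show algebraMap A L' a * x = 0 from hx, zero_mul])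
    have h1 : g₁ * (t' * x₀) = 0 := hg₁' _ (show a * (t' * x₀) = 0 by rw [mul_left_comm]; exact ht')
    have h2 := congrArg (algebraMap A L') h1
    rw [map_mul, map_mul, ← hxt, map_zero, hg1.mul_right_eq_zero,
      (IsLocalization.map_units L' t').mul_right_eq_zero, (IsLocalization.map_units L' t).mul_left_eq_zero] at h2
    exact h2
  · obtain ⟨⟨x₀, t⟩, hxt⟩ := IsLocalization.surj q.primeCompl x
    obtain ⟨⟨y₀, u⟩, hyu⟩ := IsLocalization.surj q.primeCompl y
    rw [smul_eq_mul, smul_eq_mul] at hxy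
    obtain ⟨w, hw⟩ := (IsLocalization.eq_iff_exists q.primeCompl L').1
      (show algebraMap A L' (b * (x₀ * u)) = algebraMap A L' (a * (y₀ * t)) by
        simp only [map_mul, ← hxt, ← hyu]
        linear_combination algebraMap A L' ↑t * algebraMap A L' ↑u * hxy)
    have h1 : g₂ * (w * (x₀ * u)) ∈ Ideal.span {a} :=
      hg₂' _ (show b * (w * (x₀ * u)) ∈ Ideal.span {a} from
        Ideal.mem_span_singleton.2 ⟨w * (y₀ * t), by
          rw [mul_left_comm, hw]; ring⟩)
    obtain ⟨r, hr⟩ := Ideal.mem_span_singleton.1 h1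
    have hU : IsUnit (algebraMap A L' g₂ * algebraMap A L' w * algebraMap A L' u * algebraMap A L' t) :=
      ((hg2.mul (IsLocalization.map_units L' w)).mul (IsLocalization.map_units L' u)).mul
        (IsLocalization.map_units L' t)
    obtain ⟨v, hv⟩ := hU.exists_left_inv
    refine ⟨v * algebraMap A L' r, ?_⟩
    have h2 := congrArg (algebraMap A L') hr
    simp only [map_mul, ← hxt] at h2
    rw [smul_eq_mul]
    linear_combination v * h2 - x * hv

variable {X S : Scheme.{u}}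

/-- Cokernels and kernels on stalks of a morphism bijective on `D(r)` are torsion. -/
theorem stalk_torsion_of_bijective {M N : X.Modules} [M.IsQuasicoherent] [N.IsQuasicoherent]
    (φ : M ⟶ N) {W : X.Opens} (hW : IsAffineOpen W) (r : Γ(X, W))
    (h : Bijective (φ.app (X.basicOpen r))) :
    (∀ m : Γ(M, W), φ.app W m = 0 → ∃ n : ℕ, r ^ n • m = 0) ∧
      ∀ σ : Γ(N, W), ∃ (n : ℕ) (m : Γ(M, W)), φ.app W m = r ^ n • σ := by
  refine ⟨fun m hm => (QCoh.isLocalizingAt M hW r).eq_zero m (h.1 ?_), fun σ => ?_⟩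
  · rw [QCoh.app_res, hm, map_zero, map_zero]
  obtain ⟨τ, hτ⟩ := h.2 (QCoh.res N (X.basicOpen_le r) σ)
  obtain ⟨n, t, ht⟩ := (QCoh.isLocalizingAt M hW r).surj τ
  obtain ⟨k, hk⟩ := (QCoh.isLocalizingAt N hW r).eq_zero (φ.app W t - r ^ n • σ) (by
    rw [map_sub, QCoh.res_smul, map_pow, ← QCoh.app_res, ht, Scheme.Modules.Hom.app_smul, hτ, sub_self])
  exact ⟨k + n, r ^ k • t, by
    rw [Scheme.Modules.Hom.app_smul, pow_add, mul_smul]
    exact sub_eq_zero.1 ((smul_sub _ _ _).symm.trans hk)⟩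

/-- Scalar action through the stalk map. -/
theorem IsPair.map {A B P : Type*} [CommRing A] [CommRing B] [Algebra A B] [AddCommGroup P] [Module A P]
    [Module B P] [IsScalarTower A B P] {a b : A} (h : IsPair a b P) :
    IsPair (algebraMap A B a) (algebraMap A B b) P := by
  refine ⟨fun p hp => h.1 p (by rwa [algebraMap_smul] at hp), fun p p' hp => ?_⟩
  rw [algebraMap_smul, algebraMap_smul] at hp
  obtain ⟨r, hr⟩ := h.2 p p' hp
  exact ⟨r, by rw [algebraMap_smul]; exact hr⟩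

set_option maxHeartbeats 1600000 in
/-- A frame exists near a point of depth two if one exists near all points nearby not below it. -/
theorem exists_isFrame_step [IsLocallyNoetherian S] (f : X ⟶ S) [Flat f] [UniversallyClosed f]
    [QuasiCompact f] [QuasiSeparated f] (hO : ∀ U : S.Opens, Bijective (f.app U).hom)
    {E : X.Modules} [E.IsQuasicoherent] (hE : FlatMod.IsFinLocFree E) (s : S) (V : S.Opens) (hsV : s ∈ V)
    (hgood : ∀ y ∈ V, ¬ s ⤳ y → ∃ (V' : S.Opens) (n : ℕ) (e : Fin n → Γ(E, f ⁻¹ᵁ V')),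
      y ∈ V' ∧ IsFrame E (f ⁻¹ᵁ V') e)
    (a b : S.presheaf.stalk s) (ha : ¬ IsUnit a) (hb : ¬ IsUnit b) (hab : IsPair a b (S.presheaf.stalk s)) :
    ∃ (V' : S.Opens) (n : ℕ) (e : Fin n → Γ(E, f ⁻¹ᵁ V')), s ∈ V' ∧ IsFrame E (f ⁻¹ᵁ V') e := by
  classical
  -- representatives forming a regular pair nearby
  obtain ⟨Va, hsa, a₀, ha₀⟩ := S.presheaf.exists_germ_eq a
  obtain ⟨Vb, hsb, b₀, hb₀⟩ := S.presheaf.exists_germ_eq b
  obtain ⟨_, ⟨(V₂ : S.Opens), hV₂, rfl⟩, hs₂, hV₂le⟩ := S.isBasis_affineOpens.exists_subset_of_mem_open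
    (show s ∈ V ⊓ Va ⊓ Vb from ⟨⟨hsV, hsa⟩, hsb⟩) (V ⊓ Va ⊓ Vb).2
  have h2a : V₂ ≤ Va := hV₂le.trans (inf_le_left.trans inf_le_right)
  have h2b : V₂ ≤ Vb := hV₂le.trans inf_le_right
  let a₂ : Γ(S, V₂) := S.presheaf.map (homOfLE h2a).op a₀
  let b₂ : Γ(S, V₂) := S.presheaf.map (homOfLE h2b).op b₀
  have hga : S.presheaf.germ V₂ s hs₂ a₂ = a := by
    rw [← ha₀]; exact S.presheaf.germ_res_apply (homOfLE h2a) s hs₂ a₀
  have hgb : S.presheaf.germ V₂ s hs₂ b₂ = b := by
    rw [← hb₀]; exact S.presheaf.germ_res_apply (homOfLE h2b) s hs₂ b₀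
  haveI : IsNoetherianRing Γ(S, V₂) := IsLocallyNoetherian.component_noetherian ⟨V₂, hV₂⟩
  obtain ⟨g, hgs, hg⟩ := by
    letI := TopCat.Presheaf.algebra_section_stalk S.presheaf ⟨s, hs₂⟩
    haveI := hV₂.isLocalization_stalk ⟨s, hs₂⟩
    exact exists_pair_nhd (hV₂.primeIdealOf ⟨s, hs₂⟩).asIdeal (L := S.presheaf.stalk s) a₂ b₂ (by
      show IsPair (S.presheaf.germ V₂ s hs₂ a₂) (S.presheaf.germ V₂ s hs₂ b₂) _
      rw [hga, hgb]; exact hab)
  let V₃ := S.basicOpen g
  have h32 : V₃ ≤ V₂ := S.basicOpen_le g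
  have hs₃ : s ∈ V₃ := by
    letI := TopCat.Presheaf.algebra_section_stalk S.presheaf ⟨s, hs₂⟩
    haveI := hV₂.isLocalization_stalk ⟨s, hs₂⟩
    exact (S.mem_basicOpen g s hs₂).2
      ((IsLocalization.AtPrime.isUnit_to_map_iff (S.presheaf.stalk s) _ g).2 hgs)
  have hpairS : ∀ y (hy : y ∈ V₃), IsPair (S.presheaf.germ V₂ y (h32 hy) a₂)
      (S.presheaf.germ V₂ y (h32 hy) b₂) (S.presheaf.stalk y) := fun y hy => by
    letI := TopCat.Presheaf.algebra_section_stalk S.presheaf ⟨y, h32 hy⟩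
    haveI := hV₂.isLocalization_stalk ⟨y, h32 hy⟩
    exact hg (hV₂.primeIdealOf ⟨y, h32 hy⟩).asIdeal (S.presheaf.stalk y)
      ((IsLocalization.AtPrime.isUnit_to_map_iff (S.presheaf.stalk y) _ g).1
        ((S.mem_basicOpen g y (h32 hy)).1 hy))
  -- the pair on stalks of `E`
  have hpairE : ∀ (x : X) (hx : f x ∈ V₃), IsPair (f.stalkMap x (S.presheaf.germ V₂ (f x) (h32 hx) a₂))
      (f.stalkMap x (S.presheaf.germ V₂ (f x) (h32 hx) b₂)) (E.presheaf.stalk x) := by
    intro x hx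
    letI := (f.stalkMap x).hom.toAlgebra
    haveI : Module.Flat (S.presheaf.stalk (f x)) (X.presheaf.stalk x) := Flat.stalkMap f x
    have h1 : IsPair (f.stalkMap x (S.presheaf.germ V₂ (f x) (h32 hx) a₂))
        (f.stalkMap x (S.presheaf.germ V₂ (f x) (h32 hx) b₂)) (X.presheaf.stalk x) :=
      ((hpairS (f x) hx).baseChange (IsBaseChange.linearMap (S.presheaf.stalk (f x)) (X.presheaf.stalk x))).map
    obtain ⟨W, n, d, hxW, hd⟩ := exists_isFrame_of_isFinLocFree hE x
    exact h1.of_equiv (LinearEquiv.ofBijective _ (hd.stalkComb_bijective x hxW)).symm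
  let N := (Scheme.Modules.pushforward f).obj E
  haveI : N.IsQuasicoherent := QCoh.isQuasicoherent_pushforward f E
  let FN := (Scheme.Modules.pullback f).obj N
  let ε : FN ⟶ E := (Scheme.Modules.pullbackPushforwardAdjunction f).counit.app E
  have hεgerm : ∀ (x : X) (U : S.Opens) (hx : f x ∈ U) (m : Γ(N, U)),
      stalkLin ε x (Basic.unitStalkHom f N x (germM N U (f x) hx m)) =
        germM E (f ⁻¹ᵁ U) x hx (QCoh.unPush f E m) := by
    intro x U hx m
    rw [Basic.unitStalkHom_germ, stalkLin_germ]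
    exact congrArg _ (congrArg (fun φ : N ⟶ N => Scheme.Modules.Hom.app φ U m)
      ((Scheme.Modules.pullbackPushforwardAdjunction f).right_triangle_components E))
  -- regularity on the stalk of the pushforward
  have hpairN : IsPair a b (N.presheaf.stalk s) := by
    have hgE : ∀ (c : Γ(S, V₂)) (x : X) (U : S.Opens) (hU : U ≤ V₂) (hx : x ∈ f ⁻¹ᵁ U),
        X.presheaf.germ (f ⁻¹ᵁ U) x hx (f.app U (S.presheaf.map (homOfLE hU).op c)) =
          f.stalkMap x (S.presheaf.germ V₂ (f x) (hU hx) c) := fun c x U hU hx => by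
      rw [← Scheme.Hom.germ_stalkMap_apply f U x hx]
      exact congrArg _ (S.presheaf.germ_res_apply (homOfLE hU) (f x) hx c)
    have hrep : ∀ (t : N.presheaf.stalk s), ∃ (U : S.Opens) (hs : s ∈ U) (_ : U ≤ V₃) (m : Γ(N, U)),
        germM N U s hs m = t := fun t => by
      obtain ⟨U, hsU, m, rfl⟩ := exists_germM_eq N s t
      exact ⟨U ⊓ V₃, ⟨hsU, hs₃⟩, inf_le_right, N.presheaf.map (homOfLE inf_le_left).op m,
        N.presheaf.germ_res_apply (homOfLE (inf_le_left : U ⊓ V₃ ≤ U)) s ⟨hsU, hs₃⟩ m⟩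
    have hsm : ∀ (c : Γ(S, V₂)) (U : S.Opens) (hs : s ∈ U) (hU : U ≤ V₂) (m : Γ(N, U)),
        S.presheaf.germ V₂ s hs₂ c • germM N U s hs m =
          germM N U s hs (S.presheaf.map (homOfLE hU).op c • m) := fun c U hs hU m => by
      rw [germM_smul]
      congr 1
      exact (S.presheaf.germ_res_apply (homOfLE hU) s hs c).symm
    have hres : ∀ (c : Γ(S, V₂)) (U U' : S.Opens) (hU : U ≤ V₂) (h' : U' ≤ U) (m : Γ(N, U)),
        N.presheaf.map (homOfLE h').op (S.presheaf.map (homOfLE hU).op c • m) =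
          S.presheaf.map (homOfLE (h'.trans hU)).op c • N.presheaf.map (homOfLE h').op m := by
      intro c U U' hU h' m
      rw [Scheme.Modules.map_smul, ← ConcreteCategory.comp_apply, ← Functor.map_comp]
      rfl
    have hgsm : ∀ (c : Γ(S, V₂)) (U : S.Opens) (hU : U ≤ V₂) (m : Γ(N, U)) (x : X) (hx : x ∈ f ⁻¹ᵁ U),
        germM E (f ⁻¹ᵁ U) x hx (QCoh.unPush f E (S.presheaf.map (homOfLE hU).op c • m)) =
          f.stalkMap x (S.presheaf.germ V₂ (f x) (hU hx) c) • germM E (f ⁻¹ᵁ U) x hx (QCoh.unPush f E m) := by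
      intro c U hU m x hx
      rw [QCoh.push_smul, germM_smul, hgE c x U hU hx]
    refine ⟨fun t ht => ?_, fun t t' ht => ?_⟩
    · obtain ⟨U, hsU, hU, m, rfl⟩ := hrep t
      rw [← hga, hsm a₂ U hsU (hU.trans h32)] at ht
      obtain ⟨U', hsU', i₁, i₂, he⟩ := N.presheaf.germ_eq s hsU hsU _ 0
        (ht.trans (map_zero (N.presheaf.germ U s hsU).hom).symm)
      rw [map_zero] at he
      have he' : S.presheaf.map (homOfLE (i₁.le.trans (hU.trans h32))).op a₂ •
          N.presheaf.map (homOfLE i₁.le).op m = 0 := (hres a₂ U U' _ i₁.le m).symm.trans he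
      have h0 : QCoh.unPush f E (N.presheaf.map (homOfLE i₁.le).op m) = 0 := by
        refine germ_eq_of_germ _ _ fun x hx => ?_
        rw [show germM E (f ⁻¹ᵁ U') x hx 0 = 0 from map_zero (E.presheaf.germ (f ⁻¹ᵁ U') x hx).hom]
        refine (hpairE x (hU (i₁.le hx))).1 _ ?_
        rw [← hgsm a₂ U' (i₁.le.trans (hU.trans h32)) _ x hx, he']
        exact map_zero (E.presheaf.germ (f ⁻¹ᵁ U') x hx).hom
      rw [← germM_res N i₁.le s hsU' m,
        show N.presheaf.map (homOfLE i₁.le).op m = 0 from h0]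
      exact map_zero (N.presheaf.germ U' s hsU').hom
    · obtain ⟨U, hsU, hU, m, rfl⟩ := hrep t
      obtain ⟨U', hsU', hU', m', rfl⟩ := hrep t'
      rw [← hga, ← hgb, hsm b₂ U hsU (hU.trans h32), hsm a₂ U' hsU' (hU'.trans h32)] at ht
      obtain ⟨U₁, hsU₁, i₁, i₂, he⟩ := N.presheaf.germ_eq s hsU hsU' _ _ ht
      have he' : S.presheaf.map (homOfLE (i₁.le.trans (hU.trans h32))).op b₂ •
          N.presheaf.map (homOfLE i₁.le).op m = S.presheaf.map (homOfLE (i₂.le.trans (hU'.trans h32))).op a₂ •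
          N.presheaf.map (homOfLE i₂.le).op m' :=
        (hres b₂ U U₁ _ i₁.le m).symm.trans (he.trans (hres a₂ U' U₁ _ i₂.le m'))
      let M₁ := QCoh.unPush f E (N.presheaf.map (homOfLE i₁.le).op m)
      have hloc : ∀ x : ↥(f ⁻¹ᵁ U₁), ∃ (W : X.Opens) (hW : W ≤ f ⁻¹ᵁ U₁) (_ : x.1 ∈ W) (u : Γ(E, W)),
          ∀ z (hz : z ∈ W), germM E (f ⁻¹ᵁ U₁) z (hW hz) M₁ =
            f.stalkMap z (S.presheaf.germ V₂ (f z) (h32 (hU (i₁.le (hW hz)))) a₂) • germM E W z hz u := by
        rintro ⟨x, hx⟩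
        have hx1 := congrArg (fun w => germM E (f ⁻¹ᵁ U₁) x hx (QCoh.unPush f E w)) he'
        simp only [hgsm] at hx1
        obtain ⟨r, hr⟩ := (hpairE x (hU (i₁.le hx))).2 _ _ hx1
        obtain ⟨W, hxW, u, rfl⟩ := exists_germM_eq E x r
        let W' := W ⊓ f ⁻¹ᵁ U₁
        let u' : Γ(E, W') := E.presheaf.map (homOfLE inf_le_left).op u
        let A' : Γ(X, W') := X.presheaf.map (homOfLE (inf_le_right : W' ≤ f ⁻¹ᵁ U₁)).op
          (f.app U₁ (S.presheaf.map (homOfLE (i₁.le.trans (hU.trans h32))).op a₂))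
        have hA : ∀ z (hz : z ∈ W'), X.presheaf.germ W' z hz A' =
            f.stalkMap z (S.presheaf.germ V₂ (f z) (h32 (hU (i₁.le hz.2))) a₂) := fun z hz =>
          (X.presheaf.germ_res_apply (homOfLE (inf_le_right : W' ≤ f ⁻¹ᵁ U₁)) z hz _).trans (hgE a₂ z U₁ _ hz.2)
        have hxeq : germM E W' x ⟨hxW, hx⟩ (E.presheaf.map (homOfLE inf_le_right).op M₁) =
            germM E W' x ⟨hxW, hx⟩ (A' • u') := by
          rw [germM_smul, hA x ⟨hxW, hx⟩, germM_res, germM_res]
          exact hr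
        obtain ⟨W'', hxW'', j₁, j₂, hj⟩ := E.presheaf.germ_eq (U := W') (V := W') x ⟨hxW, hx⟩ ⟨hxW, hx⟩ _ _ hxeq
        refine ⟨W'', j₁.le.trans inf_le_right, hxW'', E.presheaf.map (homOfLE j₁.le).op u', fun z hz => ?_⟩
        rw [germM_res, ← hA z (j₁.le hz), ← germM_smul, ← germM_res E inf_le_right z (j₁.le hz) M₁]
        exact (germM_res E j₁.le z hz _).symm.trans ((congrArg _ hj).trans (germM_res E j₁.le z hz _))
      choose W hW hxW u hu using hloc
      obtain ⟨w, hw, -⟩ := TopCat.Sheaf.existsUnique_gluing'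
        (⟨E.presheaf, E.isSheaf⟩ : TopCat.Sheaf Ab.{u} X) W (f ⁻¹ᵁ U₁) (fun x => homOfLE (hW x))
        (fun x hx => Opens.mem_iSup.2 ⟨⟨x, hx⟩, hxW _⟩) u (by
          intro x y
          refine germ_eq_of_germ _ _ fun z hz => ?_
          refine (germM_res E (inf_le_left : W x ⊓ W y ≤ W x) z hz _).trans
            (Eq.trans ?_ (germM_res E (inf_le_right : W x ⊓ W y ≤ W y) z hz _).symm)
          refine sub_eq_zero.1 ((hpairE z (hU (i₁.le (hW x hz.1)))).1 _ ?_)
          rw [smul_sub, sub_eq_zero]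
          exact (hu x z hz.1).symm.trans (hu y z hz.2))
      refine ⟨germM N U₁ s hsU₁ (show Γ(N, U₁) from w), ?_⟩
      rw [← hga, hsm a₂ U₁ hsU₁ (i₁.le.trans (hU.trans h32)), ← germM_res N i₁.le s hsU₁ m]
      refine congrArg _ (show M₁ = QCoh.unPush f E _ from ?_)
      refine germ_eq_of_germ _ _ fun z hz => ?_
      rw [hgsm, hu ⟨z, hz⟩ z (hxW _)]
      congr 1
      exact (congrArg (germM E _ z (hxW _)) (hw ⟨z, hz⟩)).symm.trans
        (germM_res E (hW _) z (hxW _) (show Γ(E, f ⁻¹ᵁ U₁) from w))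
  -- the counit at the points over `s`
  have hεgood : ∀ z : X, f z ∈ V → ¬ s ⤳ f z → Bijective (stalkLin ε z) := fun z hzV hz => by
    obtain ⟨V', n, e, hy, he⟩ := hgood _ hzV hz
    exact stalkLin_bijective ε (fun U hU => he.counit_bijective f hO U hU) z hy
  have hbas : ∀ (c : Γ(S, V₂)), ¬ IsUnit (S.presheaf.germ V₂ s hs₂ c) → ∀ (W : X.Opens)
      (hW : W ≤ f ⁻¹ᵁ V₂), Bijective (ε.app (X.basicOpen (f.appLE V₂ W hW c))) := by
    intro c hc W hW
    refine TopCat.Presheaf.app_bijective_of_stalkFunctor_map_bijective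
      (⟨ε.mapPresheaf⟩ : (⟨FN.presheaf, FN.isSheaf⟩ : TopCat.Sheaf Ab.{u} X) ⟶ ⟨E.presheaf, E.isSheaf⟩)
      _ fun z hz => ?_
    have hzW : z ∈ W := X.basicOpen_le _ hz
    have hzc : f z ∈ S.basicOpen c := by
      have := hz
      rw [Scheme.Hom.appLE, CommRingCat.comp_apply, Scheme.basicOpen_res] at this
      have h2 := this.2
      rwa [← Scheme.preimage_basicOpen] at h2
    refine hεgood z ((hV₂le (hW hzW)).1.1) fun hsp => hc ?_
    exact (S.mem_basicOpen c s hs₂).1 (hsp.mem_open (S.basicOpen c).2 hzc)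
  have hεs : ∀ x : X, f x = s → Bijective (stalkLin ε x) := by
    intro x hx
    have hxV : x ∈ f ⁻¹ᵁ V₃ := show f x ∈ V₃ from hx ▸ hs₃
    letI := (f.stalkMap x).hom.toAlgebra
    letI := Basic.moduleOver f N x
    haveI : IsScalarTower (S.presheaf.stalk (f x)) (X.presheaf.stalk x) (FN.presheaf.stalk x) :=
      IsScalarTower.of_algebraMap_smul fun _ _ => rfl
    haveI : Module.Flat (S.presheaf.stalk (f x)) (X.presheaf.stalk x) := Flat.stalkMap f x
    let A : Γ(S, V₂) → X.presheaf.stalk x :=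
      fun c => f.stalkMap x (S.presheaf.germ V₂ (f x) (h32 hxV) c)
    have hP : IsPair (A a₂) (A b₂) (FN.presheaf.stalk x) := by
      subst hx
      have h1 : IsPair (S.presheaf.germ V₂ (f x) (h32 hxV) a₂)
          (S.presheaf.germ V₂ (f x) (h32 hxV) b₂) (N.presheaf.stalk (f x)) := by
        rw [hga, hgb]; exact hpairN
      exact (h1.baseChange (Basic.isBaseChange_unitStalk f N x)).map
    have hstep : ∀ (c : Γ(S, V₂)), ¬ IsUnit (S.presheaf.germ V₂ s hs₂ c) →
        (∀ k, stalkLin ε x k = 0 → ∃ n : ℕ, A c ^ n • k = 0) ∧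
        ∀ e, ∃ (n : ℕ) (p : FN.presheaf.stalk x), stalkLin ε x p = A c ^ n • e := by
      intro c hc
      have hr : ∀ (W : X.Opens) (hW : W ≤ f ⁻¹ᵁ V₂) (hxW : x ∈ W),
          X.presheaf.germ W x hxW (f.appLE V₂ W hW c) = A c := fun W hW hxW => by
        rw [Scheme.Hom.appLE, CommRingCat.comp_apply]
        exact (X.presheaf.germ_res_apply (homOfLE hW) x hxW _).trans
          (Scheme.Hom.germ_stalkMap_apply f V₂ x (hW hxW) c).symm
      constructor
      · intro k hk
        obtain ⟨U, hxU, m, rfl⟩ := exists_germM_eq FN x k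
        rw [stalkLin_germ] at hk
        obtain ⟨U', hxU', i₁, i₂, he⟩ := E.presheaf.germ_eq x hxU hxU (ε.app U m) 0
          (hk.trans (map_zero (E.presheaf.germ U x hxU).hom).symm)
        rw [map_zero] at he
        obtain ⟨_, ⟨(W : X.Opens), hW, rfl⟩, hxW, hWle⟩ := X.isBasis_affineOpens.exists_subset_of_mem_open
          (show x ∈ U' ⊓ f ⁻¹ᵁ V₂ from ⟨hxU', h32 hxV⟩) (U' ⊓ f ⁻¹ᵁ V₂).2
        have hWU : W ≤ U := (hWle.trans inf_le_left).trans i₁.le
        obtain ⟨n, hn⟩ := (stalk_torsion_of_bijective ε hW _ (hbas c hc W (hWle.trans inf_le_right))).1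
          (FN.presheaf.map (homOfLE hWU).op m) (by
            refine (NatTrans.naturality_apply ε.mapPresheaf (homOfLE hWU).op m).trans ?_
            change E.presheaf.map _ (ε.app U m) = 0
            rw [← LFFrame.res_res E i₁.le (hWle.trans inf_le_left : W ≤ U')]
            rw [show E.presheaf.map (homOfLE i₁.le).op (ε.app U m) = 0 from he, map_zero])
        refine ⟨n, ?_⟩
        rw [← hr W (hWle.trans inf_le_right) hxW, ← map_pow, ← germM_res FN hWU x hxW m, ← germM_smul, hn]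
        exact map_zero (FN.presheaf.germ W x hxW).hom
      · intro e
        obtain ⟨U, hxU, m, rfl⟩ := exists_germM_eq E x e
        obtain ⟨_, ⟨(W : X.Opens), hW, rfl⟩, hxW, hWle⟩ := X.isBasis_affineOpens.exists_subset_of_mem_open
          (show x ∈ U ⊓ f ⁻¹ᵁ V₂ from ⟨hxU, h32 hxV⟩) (U ⊓ f ⁻¹ᵁ V₂).2
        obtain ⟨n, p, hp⟩ := (stalk_torsion_of_bijective ε hW _ (hbas c hc W (hWle.trans inf_le_right))).2
          (E.presheaf.map (homOfLE (hWle.trans inf_le_left)).op m)
        refine ⟨n, germM FN W x hxW p, ?_⟩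
        rw [stalkLin_germ, hp, germM_smul, map_pow, hr W (hWle.trans inf_le_right) hxW]
        congr 1
        exact germM_res E _ x hxW m
    exact bijective_of_pair (stalkLin ε x) hP (fun e he => (hpairE x hxV).1 e he)
      (hstep a₂ (by rw [hga]; exact ha)).1 (hstep a₂ (by rw [hga]; exact ha)).2
      (hstep b₂ (by rw [hgb]; exact hb)).2
  -- the basis
  rcases isEmpty_or_nonempty {x : X // f x = s} with hemp | ⟨⟨x₀, hx₀⟩⟩
  · obtain ⟨V', e, hsV', he⟩ := exists_isFrame_over f hE (V := V₃) (n := 0) Fin.elim0 s hs₃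
      fun x _ hxs => (hemp.false ⟨x, hxs⟩).elim
    exact ⟨V', 0, e, hsV', he⟩
  obtain ⟨n, ⟨B⟩⟩ : ∃ n, Nonempty (Module.Basis (Fin n) (S.presheaf.stalk s) (N.presheaf.stalk s)) := by
    subst hx₀
    letI := (f.stalkMap x₀).hom.toAlgebra
    letI := Basic.moduleOver f N x₀
    haveI : IsScalarTower (S.presheaf.stalk (f x₀)) (X.presheaf.stalk x₀) (FN.presheaf.stalk x₀) :=
      IsScalarTower.of_algebraMap_smul fun _ _ => rfl
    haveI : Module.Flat (S.presheaf.stalk (f x₀)) (X.presheaf.stalk x₀) := Flat.stalkMap f x₀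
    haveI : IsLocalHom (algebraMap (S.presheaf.stalk (f x₀)) (X.presheaf.stalk x₀)) :=
      inferInstanceAs (IsLocalHom (f.stalkMap x₀).hom)
    obtain ⟨W, r, d, hxW, hd⟩ := exists_isFrame_of_isFinLocFree hE x₀
    let eq : FN.presheaf.stalk x₀ ≃ₗ[X.presheaf.stalk x₀] (Fin r → X.presheaf.stalk x₀) :=
      (LinearEquiv.ofBijective _ (hεs x₀ rfl)).trans
        (LinearEquiv.ofBijective _ (hd.stalkComb_bijective x₀ hxW)).symm
    haveI : Module.Finite (X.presheaf.stalk x₀) (FN.presheaf.stalk x₀) := Module.Finite.equiv eq.symm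
    haveI : Module.Flat (X.presheaf.stalk x₀) (FN.presheaf.stalk x₀) := Module.Flat.of_linearEquiv eq
    exact exists_basis_of_descent (Basic.isBaseChange_unitStalk f N x₀)
  choose Uk hsUk mk hmk using fun k => exists_germM_eq N s (B k)
  let U : S.Opens := ⟨⋂ k, (Uk k : Set S), isOpen_iInter_of_finite fun k => (Uk k).2⟩
  have hU : ∀ k, U ≤ Uk k := fun k => Set.iInter_subset _ k
  have hsU : s ∈ U := Set.mem_iInter.2 hsUk
  let e : Fin n → Γ(E, f ⁻¹ᵁ U) := fun k => QCoh.unPush f E (N.presheaf.map (homOfLE (hU k)).op (mk k))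
  obtain ⟨V', e', hsV', he⟩ := exists_isFrame_over f hE e s hsU fun x hx hxs => by
    subst hxs
    letI := (f.stalkMap x).hom.toAlgebra
    letI := Basic.moduleOver f N x
    haveI : IsScalarTower (S.presheaf.stalk (f x)) (X.presheaf.stalk x) (FN.presheaf.stalk x) :=
      IsScalarTower.of_algebraMap_smul fun _ _ => rfl
    let B' := (Basic.isBaseChange_unitStalk f N x).basis B
    have hB' : ∀ k, stalkLin ε x (B' k) = germM E (f ⁻¹ᵁ U) x hx (e k) := fun k => by
      rw [IsBaseChange.basis_apply, ← hmk k, ← germM_res N (hU k) (f x) hx (mk k)]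
      exact hεgerm x U hx _
    have : stalkComb E e x hx = stalkLin ε x ∘ₗ B'.equivFun.symm.toLinearMap := by
      refine LinearMap.ext fun c => ?_
      rw [LinearMap.comp_apply, stalkComb_apply, LinearEquiv.coe_coe, Module.Basis.equivFun_symm_apply, map_sum]
      exact Finset.sum_congr rfl fun i _ => by rw [map_smul, hB']
    rw [this, LinearMap.coe_comp]
    exact (hεs x rfl).comp B'.equivFun.symm.bijective
  exact ⟨V', n, e', hsV', he⟩

end Groth.Agent.FlatMor.NormalBase
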